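import Mathlib
import Cfsg.Agent.H59.EP.Count
import Cfsg.Agent.S5914
import Cfsg.Agent.H528.EP.UB3_m3
import Cfsg.Agent.FastGrp
import Cfsg.Agent.Prune
set_option linter.all false

section
prune_inst 0x7f00000000000000000000000000000000000000000000000000000000000000000000000000000000000000000000000000000000000000000000000000000000000000000000000000000000000000003fffffffffffffffffffffffffffbeffbdffffffff

-- part: H59/EP/CountG
section
set_option linter.all false
open scoped Cfsg.Agent.FastGrp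

-- part: H59/EP/Pow
section
/-!
# S3499-II UB2 general (helper59), part 1: powers of a simple group are generated by three elements

`T` nonabelian simple, `⟨a, b⟩ = T`, `x : ι → T` injective (`ι` finite): `(a, …, a)`, `(b, …, b)`, `x` generate `T ^ ι`.
So `T ^ ι` has at least `|T| ^ |ι| * |T| (|T| - 1)` generating triples (`2 ≤ |ι| ≤ |T|`).
-/

set_option autoImplicit false

namespace Cfsg.Agent.H59.EP

open Subgroup
open scoped commutatorElement

section

variable {T : Type*} [Group T] {ι : Type*} [Fintype ι] [DecidableEq ι]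

/-- a non-central conjugate -/
theorem exists_noncomm [hs : IsSimpleGroup T] (hna : ¬ ∀ a b : T, a * b = b * a) {g h : T} (hg : g ≠ 1) (hh : h ≠ 1) :
    ∃ t : T, ⁅h, t * g * t⁻¹⁆ ≠ 1 := by
  by_contra hcon
  push Not at hcon
  -- `h` centralises the normal closure of `g`
  have h1 : normalClosure {g} ≤ centralizer {h} := by
    rw [normalClosure, closure_le]
    intro y hy
    rw [Group.mem_conjugatesOfSet_iff] at hy
    obtain ⟨z, hz, hzy⟩ := hy
    rw [Set.mem_singleton_iff] at hz
    subst hz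
    obtain ⟨t, rfl⟩ := isConj_iff.1 hzy
    rw [SetLike.mem_coe, mem_centralizer_singleton_iff]
    exact (commutatorElement_eq_one_iff_mul_comm.1 (hcon t)).symm
  have h2 : normalClosure {g} = ⊤ := by
    rcases hs.eq_bot_or_eq_top_of_normal (normalClosure {g}) inferInstance with h | h
    · exfalso
      apply hg
      have : g ∈ normalClosure ({g} : Set T) := subset_normalClosure rfl
      rw [h, mem_bot] at this
      exact this
    · exact h
  have h3 : h ∈ center T := by
    rw [mem_center_iff]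
    intro y
    have : y ∈ centralizer {h} := h1 (by rw [h2]; exact mem_top y)
    exact (mem_centralizer_singleton_iff.1 this)
  rcases hs.eq_bot_or_eq_top_of_normal (center T) inferInstance with h4 | h4
  · rw [h4, mem_bot] at h3
    exact hh h3
  · apply hna
    intro a b
    have : b ∈ center T := by rw [h4]; exact mem_top _
    exact mem_center_iff.1 this a

/-- **Three generators.** -/
theorem closure_triple [hs : IsSimpleGroup T] (hna : ¬ ∀ a b : T, a * b = b * a) {a b : T}
    (hab : _root_.Subgroup.closure ({a, b} : Set T) = ⊤) {x : ι → T} (hx : Function.Injective x) :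
    _root_.Subgroup.closure ({(fun _ => a), (fun _ => b), x} : Set (ι → T)) = ⊤ := by
  set H := _root_.Subgroup.closure ({(fun _ => a), (fun _ => b), x} : Set (ι → T)) with hH
  have hxH : x ∈ H := _root_.Subgroup.subset_closure (by simp)
  -- the constants
  have hconst : ∀ t : T, (fun _ : ι => t) ∈ H := by
    intro t
    have h1 : (Pi.constMonoidHom ι T) t ∈ H := by
      have h2 : (_root_.Subgroup.closure ({a, b} : Set T)).map (Pi.constMonoidHom ι T) ≤ H := by
        rw [MonoidHom.map_closure, closure_le, Set.image_pair]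
        rintro y (rfl | rfl)
        · exact _root_.Subgroup.subset_closure (by left; rfl)
        · exact _root_.Subgroup.subset_closure (by right; left; rfl)
      exact h2 ⟨t, by rw [hab]; exact mem_top t, rfl⟩
    exact h1
  -- separation
  have hsep : ∀ (i : ι) (J : Finset ι), i ∉ J → ∃ h ∈ H, h i ≠ 1 ∧ ∀ j ∈ J, h j = 1 := by
    intro i J
    induction J using Finset.induction_on with
    | empty =>
      intro _
      obtain ⟨t, ht⟩ := exists_ne (1 : T)
      exact ⟨fun _ => t, hconst t, ht, by simp⟩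
    | insert j J hj ih =>
      intro hi
      rw [Finset.mem_insert, not_or] at hi
      obtain ⟨h, hh, hhi, hhJ⟩ := ih hi.2
      have hgH : x * (fun _ => (x j)⁻¹) ∈ H := mul_mem hxH (hconst _)
      have hgi : x i * (x j)⁻¹ ≠ 1 := by
        rw [Ne, mul_inv_eq_one]
        exact fun e => hi.1 (hx e)
      obtain ⟨t, ht⟩ := exists_noncomm hna hgi hhi
      refine ⟨⁅h, (fun _ => t) * (x * (fun _ => (x j)⁻¹)) * (fun _ => t)⁻¹⁆, ?_, ht, ?_⟩
      · have h1 := mul_mem (mul_mem (hconst t) hgH) (inv_mem (hconst t))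
        rw [commutatorElement_def]
        exact mul_mem (mul_mem (mul_mem hh h1) (inv_mem hh)) (inv_mem h1)
      · intro l hl
        show ⁅h l, t * (x l * (x j)⁻¹) * t⁻¹⁆ = 1
        rcases Finset.mem_insert.1 hl with rfl | hl
        · rw [mul_inv_cancel, mul_one, mul_inv_cancel, commutatorElement_one_right]
        · rw [hhJ l hl, commutatorElement_one_left]
  -- the factors
  have hsingle : ∀ (i : ι) (t : T), Pi.mulSingle i t ∈ H := by
    intro i t
    obtain ⟨h, hh, hhi, hhJ⟩ := hsep i (Finset.univ.erase i) (by simp only [_root_.Finset.mem_erase, _root_.ne_eq, _root_.not_true_eq_false, _root_.Finset.mem_univ, _root_.and_true, _root_.not_false_eq_true])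
    have h1 : h = Pi.mulSingle i (h i) := by
      ext j
      by_cases hj : j = i
      · subst hj
        rw [Pi.mulSingle_eq_same]
      · rw [Pi.mulSingle_eq_of_ne hj]
        exact hhJ j (by simp only [hj, _root_.Finset.mem_erase, _root_.ne_eq, _root_.not_false_eq_true, _root_.Finset.mem_univ, _root_.and_self])
    let N : Subgroup T := H.comap (MonoidHom.mulSingle (fun _ => T) i)
    have hN : N.Normal := ⟨fun n hn g => by
      show Pi.mulSingle i (g * n * g⁻¹) ∈ H
      have hn' : Pi.mulSingle i n ∈ H := hn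
      have h2 := mul_mem (mul_mem (hconst g) hn') (inv_mem (hconst g))
      convert h2 using 1
      ext j
      by_cases hj : j = i
      · subst hj
        simp only [_root_.Pi.mulSingle_eq_same, _root_.Pi.mul_apply, _root_.Pi.inv_apply]
      · simp only [Pi.mulSingle_eq_of_ne hj, _root_.Pi.mul_apply, _root_.mul_one, _root_.Pi.inv_apply, _root_.mul_inv_cancel]⟩
    have hNt : N = ⊤ := by
      rcases hs.eq_bot_or_eq_top_of_normal N hN with h2 | h2
      · exfalso
        have h3 : h i ∈ N := by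
          show Pi.mulSingle i (h i) ∈ H
          rw [← h1]
          exact hh
        rw [h2, mem_bot] at h3
        exact hhi h3
      · exact h2
    have : t ∈ N := by rw [hNt]; exact mem_top t
    exact this
  rw [eq_top_iff']
  intro y
  exact Subgroup.pi_mem_of_mulSingle_mem y fun i => hsingle i (y i)

theorem descFactorial_ge {n k : ℕ} (hk : 2 ≤ k) (hkn : k ≤ n) : n * (n - 1) ≤ n.descFactorial k := by
  induction k, hk using Nat.le_induction with
  | base =>
    rw [Nat.descFactorial_succ, Nat.descFactorial_one, mul_comm]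
  | succ k hk ih =>
    rw [Nat.descFactorial_succ]
    refine (ih (by omega)).trans ?_
    calc n.descFactorial k = 1 * n.descFactorial k := (one_mul _).symm
      _ ≤ (n - k) * n.descFactorial k := Nat.mul_le_mul_right _ (by omega)

/-- **the number of generating triples of `T ^ ι`** -/
theorem card_triples [Finite T] [hs : IsSimpleGroup T] (hna : ¬ ∀ a b : T, a * b = b * a) {a b : T}
    (hab : _root_.Subgroup.closure ({a, b} : Set T) = ⊤) (h2 : 2 ≤ Fintype.card ι) (hι : Fintype.card ι ≤ Nat.card T) :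
    Nat.card T ^ 3 * (Nat.card T - 1) ≤
      {p : (ι → T) × (ι → T) × (ι → T) | _root_.Subgroup.closure ({p.1, p.2.1, p.2.2} : Set (ι → T)) = ⊤}.ncard := by
  classical
  let _ : Fintype T := Fintype.ofFinite T
  -- the stabiliser of `(a, b)` is trivial
  have hfree : ∀ g k : T, g * a * g⁻¹ = k * a * k⁻¹ → g * b * g⁻¹ = k * b * k⁻¹ → g = k := by
    intro g k e1 e2
    have key : ∀ z : T, g * z * g⁻¹ = k * z * k⁻¹ → (k⁻¹ * g) * z = z * (k⁻¹ * g) := by
      intro z e
      rw [mul_inv_eq_iff_eq_mul] at e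
      rw [mul_assoc k⁻¹ g z, e]
      group
    have h1 : (⊤ : Subgroup T) ≤ centralizer {k⁻¹ * g} := by
      rw [← hab, closure_le]
      rintro y (rfl | rfl)
      · rw [SetLike.mem_coe, mem_centralizer_singleton_iff]
        exact (key _ e1).symm
      · rw [SetLike.mem_coe, mem_centralizer_singleton_iff]
        exact (key _ e2).symm
    have h3 : k⁻¹ * g ∈ center T := by
      rw [mem_center_iff]
      intro y
      exact (mem_centralizer_singleton_iff.1 (h1 (mem_top y)))
    rcases hs.eq_bot_or_eq_top_of_normal (center T) inferInstance with h4 | h4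
    · rw [h4, mem_bot, inv_mul_eq_one] at h3
      exact h3.symm
    · exfalso
      apply hna
      intro a b
      have : b ∈ center T := by rw [h4]; exact mem_top _
      exact mem_center_iff.1 this a
  let f : (ι → T) × (ι ↪ T) → (ι → T) × (ι → T) × (ι → T) := fun q =>
    (q.1 * (fun _ => a) * q.1⁻¹, q.1 * (fun _ => b) * q.1⁻¹, q.1 * q.2 * q.1⁻¹)
  have hf : Function.Injective f := by
    rintro ⟨g, x⟩ ⟨k, y⟩ e
    simp only [f, Prod.mk.injEq] at e
    obtain ⟨e1, e2, e3⟩ := e
    have hgk : g = k := by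
      ext i
      exact hfree _ _ (congrFun e1 i) (congrFun e2 i)
    subst hgk
    have h4 : (x : ι → T) = y := by
      have := mul_right_cancel e3
      exact mul_left_cancel this
    have h5 : x = y := DFunLike.coe_injective h4
    rw [h5]
  have hmem : ∀ q, f q ∈ {p : (ι → T) × (ι → T) × (ι → T) | _root_.Subgroup.closure ({p.1, p.2.1, p.2.2} : Set (ι → T)) = ⊤} := by
    rintro ⟨g, x⟩
    show _root_.Subgroup.closure ({g * (fun _ => a) * g⁻¹, g * (fun _ => b) * g⁻¹, g * (x : ι → T) * g⁻¹} : Set (ι → T)) = ⊤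
    have h1 : ({g * (fun _ => a) * g⁻¹, g * (fun _ => b) * g⁻¹, g * (x : ι → T) * g⁻¹} : Set (ι → T)) =
        (MulAut.conj g).toMonoidHom '' {(fun _ => a), (fun _ => b), (x : ι → T)} := by
      rw [Set.image_insert_eq, Set.image_pair]
      rfl
    rw [h1, ← MonoidHom.map_closure, closure_triple hna hab x.injective]
    exact Subgroup.map_top_of_surjective _ (MulAut.conj g).surjective
  have h1 : Nat.card ((ι → T) × (ι ↪ T)) ≤
      {p : (ι → T) × (ι → T) × (ι → T) | _root_.Subgroup.closure ({p.1, p.2.1, p.2.2} : Set (ι → T)) = ⊤}.ncard := by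
    have e : Nat.card ((ι → T) × (ι ↪ T)) = (Set.range f).ncard := by
      rw [← Set.image_univ, Set.ncard_image_of_injective _ hf, Set.ncard_univ]
    rw [e]
    refine Set.ncard_le_ncard ?_ (Set.toFinite _)
    rintro _ ⟨q, rfl⟩
    exact hmem q
  refine le_trans ?_ h1
  rw [Nat.card_prod, Nat.card_eq_fintype_card (α := ι → T), Nat.card_eq_fintype_card (α := ι ↪ T),
    Fintype.card_fun, Fintype.card_embedding_eq, Nat.card_eq_fintype_card]
  rw [Nat.card_eq_fintype_card] at hι
  have h5 := descFactorial_ge h2 hι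
  have h6 : Fintype.card T ^ 2 ≤ Fintype.card T ^ Fintype.card ι := Nat.pow_le_pow_right Fintype.card_pos h2
  calc Fintype.card T ^ 3 * (Fintype.card T - 1) = Fintype.card T ^ 2 * (Fintype.card T * (Fintype.card T - 1)) := by
        rw [pow_succ, mul_assoc]
    _ ≤ _ := Nat.mul_le_mul h6 h5

end

end Cfsg.Agent.H59.EP
end

-- part: H59/EP/CountG
section
/-!
# S3499-II UB2 general (helper59), part 2: the counting theorem without conditions on the primes

`ncard_le_gen`: `𝓜` a set of subgroups `M ≠ 1` of `B` of index at most `c` with `N_B(K) ≤ M` for all characteristic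
subgroups `K ≠ 1` of `M`, and `|B| < 60 ^ 61`. Then
`|𝓜| ≤ (∑_s gal s (v_s |B|)) * c + |B| ^ 2 / 60 + |B| ^ 3 / 12744000`.
-/

set_option autoImplicit false

namespace Cfsg.Agent.H59.EP

open Subgroup
open scoped commutatorElement

/-- an abelian characteristically simple group is elementary abelian -/
theorem elab_of_comm {X : Type*} [Group X] [Finite X] [Nontrivial X]
    (hc : ∀ Y : Subgroup X, Y.Characteristic → Y = ⊥ ∨ Y = ⊤) (hcomm : ∀ a b : X, a * b = b * a) :
    ∃ s : ℕ, s.Prime ∧ s ∣ Nat.card X ∧ ElAb s (⊤ : Subgroup X) := by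
  obtain ⟨s, hs, hsd⟩ := Nat.exists_prime_and_dvd (n := Nat.card X) (by
    have := Finite.one_lt_card (α := X)
    omega)
  have : Fact s.Prime := ⟨hs⟩
  obtain ⟨x, hx⟩ := exists_prime_orderOf_dvd_card' s hsd
  let Y : Subgroup X :=
    { carrier := {y | y ^ s = 1}
      one_mem' := one_pow s
      mul_mem' := fun {a b} ha hb => by
        show (a * b) ^ s = 1
        rw [(show Commute a b from hcomm a b).mul_pow, show a ^ s = 1 from ha, show b ^ s = 1 from hb, one_mul]
      inv_mem' := fun {a} ha => by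
        show a⁻¹ ^ s = 1
        rw [inv_pow, show a ^ s = 1 from ha, inv_one] }
  have hY : Y.Characteristic := by
    rw [characteristic_iff_map_le]
    rintro φ _ ⟨y, hy, rfl⟩
    show (φ y) ^ s = 1
    rw [← map_pow, show y ^ s = 1 from hy, map_one]
  refine ⟨s, hs, hsd, fun a _ b _ => hcomm a b, ?_⟩
  rcases hc Y hY with h | h
  · exfalso
    have h1 : x ∈ Y := by
      show x ^ s = 1
      rw [← hx, pow_orderOf_eq_one]
    rw [h, mem_bot] at h1
    rw [h1, orderOf_one] at hx
    exact hs.one_lt.ne hx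
  · intro a _
    have h1 : a ∈ Y := by rw [h]; exact mem_top _
    exact h1

/-- **characteristically simple groups** -/
theorem char_simple_gen (hg : ∀ (X : Type) [Group X] [Finite X] [IsSimpleGroup X], ∃ x y : X, _root_.Subgroup.closure ({x, y} : Set X) = ⊤) {X : Type*} [Group X] [Finite X] [Nontrivial X]
    (hc : ∀ Y : Subgroup X, Y.Characteristic → Y = ⊥ ∨ Y = ⊤) (hcard : Nat.card X < 60 ^ 61) :
    (∃ s : ℕ, s.Prime ∧ s ∣ Nat.card X ∧ ElAb s (⊤ : Subgroup X)) ∨
      ((IsSimpleGroup X ∧ ¬ Group.IsSolvable X) ∧ ∃ a b : X, _root_.Subgroup.closure ({a, b} : Set X) = ⊤) ∨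
      12744000 ≤ {p : X × X × X | closure ({p.1, p.2.1, p.2.2} : Set X) = ⊤}.ncard := by
  by_cases hcomm : ∀ a b : X, a * b = b * a
  · exact Or.inl (elab_of_comm hc hcomm)
  right
  obtain ⟨T, hT1, hT2, n, hn, ⟨e⟩⟩ := Cfsg.Agent.S5914.result.1 hc
  have h0 : 0 < n := by omega
  -- `T` is finite
  have hTf : Finite T := Finite.of_injective (fun t : T => e.symm (Pi.mulSingle ⟨0, h0⟩ t)) fun t s h =>
    Pi.mulSingle_injective _ (e.symm.injective h)
  have hTc : ¬ ∀ a b : T, a * b = b * a := by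
    intro h
    apply hcomm
    intro a b
    apply e.injective
    rw [map_mul, map_mul]
    ext i
    exact h _ _
  have hTs : ¬ Group.IsSolvable T := by
    intro h
    have h1 : commutator T < ⊤ := Group.IsSolvable.commutator_lt_top_of_nontrivial T
    rcases hT2.eq_bot_or_eq_top_of_normal (commutator T) inferInstance with h2 | h2
    · apply hTc
      intro a b
      have h1 : ⁅a, b⁆ ∈ commutator T := commutator_mem_commutator (mem_top _) (mem_top _)
      rw [h2, mem_bot, commutatorElement_eq_one_iff_mul_comm] at h1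
      exact h1
    · exact h1.ne h2
  have h60 := Cfsg.Agent.H168.NoSolv.sixty_le hTs
  obtain ⟨a, b, hab⟩ := hg T
  have hXc : Nat.card X = Nat.card T ^ n := by
    rw [Nat.card_congr e.toEquiv, Nat.card_pi, Finset.prod_const, Finset.card_univ, Fintype.card_fin]
  rcases Nat.lt_or_ge n 2 with h2 | h2
  · left
    obtain rfl : n = 1 := by omega
    let E : T ≃* X := (MulEquiv.piUnique (fun _ : Fin 1 => T)).symm.trans e.symm
    refine ⟨⟨E.symm.isSimpleGroup, fun h => hTs ?_⟩, E a, E b, ?_⟩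
    · exact Group.isSolvable_of_isSolvable_injective (f := E.toMonoidHom) E.injective
    · have h3 : ({E a, E b} : Set X) = E.toMonoidHom '' {a, b} := by
        rw [Set.image_pair]
        rfl
      rw [h3, ← MonoidHom.map_closure, hab]
      exact Subgroup.map_top_of_surjective _ E.surjective
  · right
    have hnT : n ≤ Nat.card T := by
      by_contra hlt
      push Not at hlt
      have h3 : 60 ^ 61 ≤ Nat.card T ^ n :=
        (Nat.pow_le_pow_left h60 61).trans (Nat.pow_le_pow_right (by omega) (by omega))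
      rw [← hXc] at h3
      omega
    have h4 := card_triples (ι := Fin n) hTc hab (by rwa [Fintype.card_fin]) (by rwa [Fintype.card_fin])
    have h5 : 12744000 ≤ Nat.card T ^ 3 * (Nat.card T - 1) := by
      calc 12744000 = 60 ^ 3 * (60 - 1) := by norm_num
        _ ≤ _ := Nat.mul_le_mul (Nat.pow_le_pow_left h60 3) (Nat.sub_le_sub_right h60 1)
    refine h5.trans (h4.trans (le_of_eq ?_))
    -- transport along `e`
    refine Set.ncard_congr (fun p _ => (e.symm p.1, e.symm p.2.1, e.symm p.2.2)) ?_ ?_ ?_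
    · intro p hp
      show _root_.Subgroup.closure ({e.symm p.1, e.symm p.2.1, e.symm p.2.2} : Set X) = ⊤
      have h3 : ({e.symm p.1, e.symm p.2.1, e.symm p.2.2} : Set X) =
          e.symm.toMonoidHom '' {p.1, p.2.1, p.2.2} := by
        rw [Set.image_insert_eq, Set.image_pair]
        rfl
      rw [h3, ← MonoidHom.map_closure, show Subgroup.closure _ = ⊤ from hp]
      exact Subgroup.map_top_of_surjective _ e.symm.surjective
    · rintro ⟨p1, p2, p3⟩ ⟨q1, q2, q3⟩ _ _ h
      simp only [Prod.mk.injEq, EmbeddingLike.apply_eq_iff_eq] at h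
      obtain ⟨rfl, rfl, rfl⟩ := h
      rfl
    · rintro ⟨q1, q2, q3⟩ hq
      refine ⟨(e q1, e q2, e q3), ?_, ?_⟩
      · show _root_.Subgroup.closure ({e q1, e q2, e q3} : Set (Fin n → T)) = ⊤
        have h3 : ({e q1, e q2, e q3} : Set (Fin n → T)) = e.toMonoidHom '' {q1, q2, q3} := by
          rw [Set.image_insert_eq, Set.image_pair]
          rfl
        rw [h3, ← MonoidHom.map_closure, show Subgroup.closure _ = ⊤ from hq]
        exact Subgroup.map_top_of_surjective _ e.surjective
      · simp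

variable {B : Type*} [Group B]

/-- the subgroups with many generating triples -/
theorem ncard_triple_le [Finite B] {𝒮 : Set (Subgroup B)} {w : ℕ} (hw0 : 0 < w)
    (hw : ∀ X ∈ 𝒮, w ≤ {p : X × X × X | _root_.Subgroup.closure ({p.1, p.2.1, p.2.2} : Set X) = ⊤}.ncard) :
    𝒮.ncard ≤ Nat.card B ^ 3 / w := by
  classical
  rw [Nat.le_div_iff_mul_le hw0]
  have hfin : 𝒮.Finite := Set.toFinite _
  let G : Subgroup B → Set (B × B × B) := fun X => {p | _root_.Subgroup.closure ({p.1, p.2.1, p.2.2} : Set B) = X}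
  have hG : ∀ X ∈ 𝒮, w ≤ (G X).ncard := by
    intro X hX
    refine (hw X hX).trans ?_
    refine Set.ncard_le_ncard_of_injOn (fun p => ((p.1 : B), (p.2.1 : B), (p.2.2 : B))) ?_ ?_ (Set.toFinite _)
    · rintro ⟨a, b, c⟩ hp
      show closure ({(a : B), (b : B), (c : B)} : Set B) = X
      have h1 := congrArg (Subgroup.map X.subtype) (show _root_.Subgroup.closure ({a, b, c} : Set X) = ⊤ from hp)
      rw [MonoidHom.map_closure, Set.image_insert_eq, Set.image_pair, ← MonoidHom.range_eq_map, X.range_subtype] at h1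
      exact h1
    · rintro ⟨a, b, c⟩ _ ⟨a', b', c'⟩ _ h
      simp only [Prod.mk.injEq] at h
      obtain ⟨h1, h2, h3⟩ := h
      rw [Subtype.ext h1, Subtype.ext h2, Subtype.ext h3]
  have hdis : (hfin.toFinset : Set (Subgroup B)).PairwiseDisjoint fun X => (Set.toFinite (G X)).toFinset := by
    intro X _ Y _ hne
    rw [Function.onFun, Finset.disjoint_left]
    intro p hp hq
    rw [Set.Finite.mem_toFinset] at hp hq
    exact hne (hp.symm.trans hq)
  have h1 : (hfin.toFinset.biUnion fun X => (Set.toFinite (G X)).toFinset).card ≤ Nat.card (B × B × B) := by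
    have := Set.ncard_le_ncard (Set.subset_univ
      ((hfin.toFinset.biUnion fun X => (Set.toFinite (G X)).toFinset : Finset (B × B × B)) : Set (B × B × B)))
      (Set.toFinite _)
    rw [Set.ncard_coe_finset, Set.ncard_univ] at this
    exact this
  rw [Finset.card_biUnion hdis, Nat.card_prod, Nat.card_prod] at h1
  have e3 : Nat.card B * (Nat.card B * Nat.card B) = Nat.card B ^ 3 := by ring
  rw [e3] at h1
  refine le_trans ?_ h1
  rw [Set.ncard_eq_toFinset_card _ hfin, ← smul_eq_mul]
  apply Finset.card_nsmul_le_sum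
  intro X hX
  rw [← Set.ncard_eq_toFinset_card _ (Set.toFinite _)]
  exact hG X (hfin.mem_toFinset.1 hX)

/-- the minimal characteristic subgroups of the members of `𝓜` -/
theorem exists_key [Finite B] {M : Subgroup B} (hnt : M ≠ ⊥)
    (hch : ∀ K : Subgroup M, K.Characteristic → K ≠ ⊥ → ∀ b : B,
      (∀ k ∈ K.map M.subtype, b * k * b⁻¹ ∈ K.map M.subtype) → b ∈ M) :
    ∃ X : Subgroup B, normalizer (X : Set B) = M ∧ X ≤ M ∧ X ≠ ⊥ ∧
      ∀ Y : Subgroup X, Y.Characteristic → Y = ⊥ ∨ Y = ⊤ := by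
  have hMn : Nontrivial M := (Subgroup.nontrivial_iff_ne_bot M).2 hnt
  obtain ⟨Y, hY, hYne, hYmin⟩ := exists_min_char (B := M)
  have hYn : Nontrivial Y := (Subgroup.nontrivial_iff_ne_bot Y).2 hYne
  have hYc : ∀ Z : Subgroup Y, Z.Characteristic → Z = ⊥ ∨ Z = ⊤ := by
    intro Z hZ
    by_cases hZb : Z = ⊥
    · exact Or.inl hZb
    right
    have h1 := hYmin (Z.map Y.subtype) char_trans (by
      rintro _ ⟨z, _, rfl⟩
      exact z.2) (by
      intro e
      rw [Subgroup.map_eq_bot_iff_of_injective _ Y.subtype_injective] at e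
      exact hZb e)
    rw [Subgroup.eq_top_iff']
    intro y
    have h2 : (y : M) ∈ Z.map Y.subtype := by rw [h1]; exact y.2
    obtain ⟨z, hz, e⟩ := h2
    have : z = y := Subtype.ext e
    rw [← this]
    exact hz
  set X : Subgroup B := Y.map M.subtype with hX
  have e : Y ≃* X := Y.equivMapOfInjective _ M.subtype_injective
  refine ⟨X, ?_, ?_, ?_, ?_⟩
  · apply le_antisymm
    · intro b hb
      exact hch Y hY hYne b fun k hk => (mem_normalizer_iff.1 hb k).1 hk
    · intro m hm
      have hn : Y.Normal := inferInstance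
      rw [mem_normalizer_iff]
      have key : ∀ m ∈ M, ∀ k ∈ X, m * k * m⁻¹ ∈ X := by
        rintro m hm _ ⟨k, hk, rfl⟩
        exact ⟨_, hn.conj_mem k hk ⟨m, hm⟩, rfl⟩
      intro k
      refine ⟨key m hm k, fun h => ?_⟩
      have := key m⁻¹ (M.inv_mem hm) _ h
      have e : m⁻¹ * (m * k * m⁻¹) * m⁻¹⁻¹ = k := by group
      rwa [e] at this
  · rintro _ ⟨y, _, rfl⟩
    exact y.2
  · intro e
    rw [hX, Subgroup.map_eq_bot_iff_of_injective _ M.subtype_injective] at e
    exact hYne e
  · intro Z hZ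
    have hZ' : (Z.map e.symm.toMonoidHom).Characteristic := by
      rw [characteristic_iff_map_le]
      rintro φ _ ⟨_, ⟨k, hk, rfl⟩, rfl⟩
      have h1 := characteristic_iff_map_eq.1 hZ ((e.symm.trans φ).trans e)
      have h2 : ((e.symm.trans φ).trans e) k ∈ Z := by
        rw [← h1]
        exact ⟨k, hk, rfl⟩
      exact ⟨_, h2, by
        show e.symm (e (φ (e.symm k))) = φ (e.symm k)
        rw [MulEquiv.symm_apply_apply]⟩
    rcases hYc _ hZ' with h | h
    · left
      rwa [Subgroup.map_eq_bot_iff_of_injective _ e.symm.injective] at h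
    · right
      rw [Subgroup.eq_top_iff']
      intro x
      have : e.symm x ∈ Z.map e.symm.toMonoidHom := by rw [h]; exact mem_top _
      obtain ⟨z, hz, e1⟩ := this
      have : z = x := e.symm.injective e1
      rw [← this]
      exact hz

/-- **General counting theorem.** -/
theorem ncard_le_gen [Finite B] (hg : ∀ (X : Type) [Group X] [Finite X] [IsSimpleGroup X], ∃ x y : X, _root_.Subgroup.closure ({x, y} : Set X) = ⊤) (hB : Nat.card B < 60 ^ 61)
    {𝓜 : Set (Subgroup B)} {c : ℕ} (hc : ∀ M ∈ 𝓜, M.index ≤ c) (hnt : ∀ M ∈ 𝓜, M ≠ ⊥)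
    (hch : ∀ M ∈ 𝓜, ∀ K : Subgroup M, K.Characteristic → K ≠ ⊥ → ∀ b : B,
      (∀ k ∈ K.map M.subtype, b * k * b⁻¹ ∈ K.map M.subtype) → b ∈ M) :
    𝓜.ncard ≤ (∑ s ∈ (Nat.card B).primeFactors, gal s ((Nat.card B).factorization s)) * c + Nat.card B ^ 2 / 60 +
      Nat.card B ^ 3 / 12744000 := by
  classical
  have key : ∀ M ∈ 𝓜, ∃ X : Subgroup B, normalizer (X : Set B) = M ∧
      ((∃ s ∈ (Nat.card B).primeFactors, ElAb s X ∧ X ≠ ⊥) ∨
        ((IsSimpleGroup X ∧ ¬ Group.IsSolvable X) ∧ ∃ a b : X, _root_.Subgroup.closure ({a, b} : Set X) = ⊤) ∨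
        12744000 ≤ {p : X × X × X | _root_.Subgroup.closure ({p.1, p.2.1, p.2.2} : Set X) = ⊤}.ncard) := by
    intro M hM
    obtain ⟨X, h1, _, h3, h4⟩ := exists_key (hnt M hM) (hch M hM)
    refine ⟨X, h1, ?_⟩
    have hXn : Nontrivial X := (Subgroup.nontrivial_iff_ne_bot X).2 h3
    have hXB : Nat.card X ∣ Nat.card B := Subgroup.card_subgroup_dvd_card X
    rcases char_simple_gen hg h4 ((Nat.le_of_dvd Nat.card_pos hXB).trans_lt hB) with ⟨s, hs, hsd, hel⟩ | h | h
    · left
      refine ⟨s, Nat.mem_primeFactors.2 ⟨hs, hsd.trans hXB, Nat.card_pos.ne'⟩, ⟨?_, ?_⟩, h3⟩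
      · intro a ha b hb
        exact Subtype.ext_iff.1 (hel.comm ⟨a, ha⟩ (mem_top _) ⟨b, hb⟩ (mem_top _))
      · intro a ha
        exact Subtype.ext_iff.1 (hel.exp ⟨a, ha⟩ (mem_top _))
    · exact Or.inr (Or.inl h)
    · exact Or.inr (Or.inr h)
  choose! f hf1 hf2 using key
  have hinj : Set.InjOn f 𝓜 := by
    intro M hM N hN e
    rw [← hf1 M hM, ← hf1 N hN, e]
  rw [← hinj.ncard_image]
  have hsub : f '' 𝓜 ⊆ ((⋃ s ∈ (Nat.card B).primeFactors,
      {X : Subgroup B | ElAb s X ∧ X ≠ ⊥ ∧ (normalizer (X : Set B)).index ≤ c}) ∪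
      {X : Subgroup B | (IsSimpleGroup X ∧ ¬ Group.IsSolvable X) ∧ ∃ a b : X, _root_.Subgroup.closure ({a, b} : Set X) = ⊤}) ∪
      {X : Subgroup B | 12744000 ≤ {p : X × X × X | _root_.Subgroup.closure ({p.1, p.2.1, p.2.2} : Set X) = ⊤}.ncard} := by
    rintro _ ⟨M, hM, rfl⟩
    rcases hf2 M hM with ⟨s, hs, h1, h2⟩ | h | h
    · left
      left
      simp only [Set.mem_iUnion]
      exact ⟨s, hs, h1, h2, by rw [hf1 M hM]; exact hc M hM⟩
    · left
      right
      exact h
    · right
      exact h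
  refine (Set.ncard_le_ncard hsub (Set.toFinite _)).trans ((Set.ncard_union_le _ _).trans (Nat.add_le_add
    ((Set.ncard_union_le _ _).trans (Nat.add_le_add ?_ ?_)) ?_))
  · have hun : ∀ I : Finset ℕ, (⋃ s ∈ I, {X : Subgroup B | ElAb s X ∧ X ≠ ⊥ ∧
        (normalizer (X : Set B)).index ≤ c}).ncard ≤
        ∑ s ∈ I, {X : Subgroup B | ElAb s X ∧ X ≠ ⊥ ∧ (normalizer (X : Set B)).index ≤ c}.ncard := by
      intro I
      induction I using Finset.induction_on with
      | empty => simp only [_root_.Finset.notMem_empty, _root_.ne_eq, _root_.Set.iUnion_of_empty, _root_.Set.iUnion_empty, _root_.Set.ncard_empty, _root_.Finset.sum_empty, _root_.Std.le_refl]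
      | insert j I hj ih =>
        rw [Finset.sum_insert hj, Finset.set_biUnion_insert]
        exact (Set.ncard_union_le _ _).trans (Nat.add_le_add_left ih _)
    refine (hun _).trans ?_
    rw [Finset.sum_mul]
    exact Finset.sum_le_sum fun s hs => ncard_elab_class_le (Nat.prime_of_mem_primeFactors hs)
  · exact ncard_simple_le (fun X hX => hX.1) (fun X hX => hX.2)
  · exact ncard_triple_le (by norm_num) (fun X hX => hX)

end Cfsg.Agent.H59.EP
end
end

-- part: H59/EP/UBGen
section
set_option linter.all false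
open scoped Cfsg.Agent.FastGrp

/-!
# S3499-II UB2 general (helper59): the number of two-point stabilisers, no condition on `p ^ 2 ∣ |A|`

`EPT A Γ`, `A` without abelian normal subgroups `≠ 1`, `|A| < 60 ^ 61`. Then

`r ≤ (∑_{s ∣ |A|} gal s (v_s |A|)) * (|A| / 6) + |A| ^ 2 / 60 + |A| ^ 3 / 12744000`.
-/

set_option autoImplicit false

namespace Cfsg.Agent.H59.EP

open Subgroup Cfsg.Agent.H284

universe u

variable {Q : Type u} [Group Q] [Finite Q] {A : Subgroup Q} {Γ : Subgroup (MulAut Q)}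

/-- the two-point stabilisers as subgroups of `A` satisfy the hypotheses of the counting theorems -/
theorem EPT.transfer (h : EPT A Γ) {μ : ℕ} (hμ0 : 0 < μ)
    (hμ : ∀ x, x ∉ A → μ ≤ Nat.card (A ⊓ cj x A : Subgroup Q)) : ∃ 𝓜 : Set (Subgroup A),
      {M : Subgroup Q | ∃ x, x ∉ A ∧ M = A ⊓ cj x A}.ncard ≤ 𝓜.ncard ∧ (∀ M ∈ 𝓜, M.index ≤ Nat.card A / μ) ∧
      (∀ M ∈ 𝓜, M ≠ ⊥) ∧ (∀ M ∈ 𝓜, μ ≤ Nat.card M) ∧
      ∀ M ∈ 𝓜, ∀ K : Subgroup M, K.Characteristic → K ≠ ⊥ → ∀ b : A,
        (∀ k ∈ K.map M.subtype, b * k * b⁻¹ ∈ K.map M.subtype) → b ∈ M := by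
  classical
  refine ⟨{M | ∃ x, x ∉ A ∧ M = (A ⊓ cj x A).subgroupOf A}, ?_, ?_, ?_, ?_, ?_⟩
  · refine Set.ncard_le_ncard_of_injOn (fun M => M.subgroupOf A) ?_ ?_ (Set.toFinite _)
    · rintro _ ⟨x, hx, rfl⟩
      exact ⟨x, hx, rfl⟩
    · rintro _ ⟨x, _, rfl⟩ _ ⟨y, _, rfl⟩ e
      have e1 := congrArg (Subgroup.map A.subtype) e
      simp only [Subgroup.subgroupOf_map_subtype] at e1
      rw [inf_eq_left.2 (inf_le_left : A ⊓ cj x A ≤ A), inf_eq_left.2 (inf_le_left : A ⊓ cj y A ≤ A)] at e1
      exact e1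
  · rintro _ ⟨x, hx, rfl⟩
    have hc : Nat.card ((A ⊓ cj x A).subgroupOf A) = Nat.card (A ⊓ cj x A : Subgroup Q) :=
      Nat.card_congr (Subgroup.subgroupOfEquivOfLe inf_le_left).toEquiv
    have hmul := ((A ⊓ cj x A).subgroupOf A).card_mul_index
    rw [hc] at hmul
    rw [Nat.le_div_iff_mul_le hμ0, ← hmul, mul_comm]
    exact Nat.mul_le_mul_right _ (hμ x hx)
  · rintro _ ⟨x, hx, rfl⟩ e
    apply h.M0 x hx
    rw [Subgroup.subgroupOf_eq_bot] at e
    exact e.eq_bot_of_le inf_le_left
  · rintro _ ⟨x, hx, rfl⟩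
    have hc : Nat.card ((A ⊓ cj x A).subgroupOf A) = Nat.card (A ⊓ cj x A : Subgroup Q) :=
      Nat.card_congr (Subgroup.subgroupOfEquivOfLe inf_le_left).toEquiv
    rw [hc]
    exact hμ x hx
  · rintro _ ⟨x, hx, rfl⟩ K hK hne b hb
    set E : (A ⊓ cj x A).subgroupOf A ≃* (A ⊓ cj x A : Subgroup Q) :=
      Subgroup.subgroupOfEquivOfLe (inf_le_left : A ⊓ cj x A ≤ A) with hE
    have hch := char_map E hK
    have hn := h.norm_char hx (K.map E.toMonoidHom) (hK := hch) (by
      intro e
      rw [Subgroup.map_eq_bot_iff_of_injective _ E.injective] at e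
      exact hne e) (a := (b : Q)) b.2 (by
      rintro _ ⟨_, ⟨k, hk, rfl⟩, rfl⟩
      obtain ⟨k', hk', e'⟩ := hb _ ⟨k, hk, rfl⟩
      refine ⟨_, ⟨k', hk', rfl⟩, ?_⟩
      have e2 := congrArg (Subtype.val) e'
      exact e2)
    exact ⟨b.2, hn⟩

/-- **UB2, general form** (parameter `μ`) -/
theorem EPT.ncard_le_gen_of (h : EPT A Γ) (hg : TwoGen.{0}) {μ : ℕ} (hμ0 : 0 < μ)
    (hμ : ∀ x, x ∉ A → μ ≤ Nat.card (A ⊓ cj x A : Subgroup Q)) (hB : Nat.card A < 60 ^ 61) :
    {M : Subgroup Q | ∃ x, x ∉ A ∧ M = A ⊓ cj x A}.ncard ≤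
      (∑ s ∈ (Nat.card A).primeFactors, gal s ((Nat.card A).factorization s)) * (Nat.card A / μ) +
        Nat.card A ^ 2 / 60 + Nat.card A ^ 3 / 12744000 := by
  obtain ⟨𝓜, h1, h2, h3, _, h4⟩ := EPT.transfer h hμ0 hμ
  exact h1.trans (Cfsg.Agent.H59.EP.ncard_le_gen hg hB h2 h3 h4)

/-- **UB2, general form** -/
theorem EPT.ncard_le_gen (h : EPT A Γ) (hg : TwoGen.{0})
    (hab : ∀ K : Subgroup Q, K ≤ A → (∀ a ∈ A, ∀ k ∈ K, a * k * a⁻¹ ∈ K) → (∀ a ∈ K, ∀ b ∈ K, a * b = b * a) → K = ⊥)
    (hB : Nat.card A < 60 ^ 61) :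
    {M : Subgroup Q | ∃ x, x ∉ A ∧ M = A ⊓ cj x A}.ncard ≤
      (∑ s ∈ (Nat.card A).primeFactors, gal s ((Nat.card A).factorization s)) * (Nat.card A / 6) +
        Nat.card A ^ 2 / 60 + Nat.card A ^ 3 / 12744000 :=
  EPT.ncard_le_gen_of h hg (by norm_num) (fun _ hx => EPT.six_le h hab hx) hB

/-- `gal s ·` is monotone in the number of factors: a bound for all `|A|` dividing a number with factorisation `l`. -/
theorem prod_le_prod_gal {s j a b : ℕ} (hs : 1 < s) (hab : a ≤ b) :
    ∏ i ∈ Finset.range j, (s ^ a - s ^ i) ≤ ∏ i ∈ Finset.range j, (s ^ b - s ^ i) :=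
  Finset.prod_le_prod (fun _ _ => Nat.zero_le _) fun _ _ =>
    Nat.sub_le_sub_right (Nat.pow_le_pow_right (by omega) hab) _

theorem gal_mono {s a b : ℕ} (hs : 1 < s) (hab : a ≤ b) : gal s a ≤ gal s b := by
  rw [gal, gal]
  refine le_trans (Finset.sum_le_sum fun j _ => Nat.div_le_div_right (prod_le_prod_gal hs hab)) ?_
  exact Finset.sum_le_sum_of_subset (Finset.Icc_subset_Icc le_rfl hab)

theorem galSum_le_of_dvd {n N : ℕ} (h : n ∣ N) (hN : N ≠ 0) : galSum n ≤ galSum N := by
  rw [galSum, galSum]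
  refine (Finset.sum_le_sum fun s hs => gal_mono (Nat.prime_of_mem_primeFactors hs).one_lt
    ((Nat.factorization_le_iff_dvd (ne_zero_of_dvd_ne_zero hN h) hN).2 h s)).trans ?_
  exact Finset.sum_le_sum_of_subset (Nat.primeFactors_mono h hN)

/-- **UB2, general form**: `|A|` divides the number with factorisation `l` -/
theorem EPT.ncard_le_gen_dvd (h : EPT A Γ) (hg : TwoGen.{0})
    (hab : ∀ K : Subgroup Q, K ≤ A → (∀ a ∈ A, ∀ k ∈ K, a * k * a⁻¹ ∈ K) → (∀ a ∈ K, ∀ b ∈ K, a * b = b * a) → K = ⊥)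
    (l : List (ℕ × ℕ)) (h1 : ∀ x ∈ l, x.1.Prime ∧ 0 < x.2) (h2 : (l.map Prod.fst).Nodup)
    (hc : Nat.card A ∣ (l.map fun x => x.1 ^ x.2).prod) (hB : (l.map fun x => x.1 ^ x.2).prod < 60 ^ 61) :
    {M : Subgroup Q | ∃ x, x ∉ A ∧ M = A ⊓ cj x A}.ncard ≤
      (l.map fun x => gal x.1 x.2).sum * ((l.map fun x => x.1 ^ x.2).prod / 6) +
        (l.map fun x => x.1 ^ x.2).prod ^ 2 / 60 + (l.map fun x => x.1 ^ x.2).prod ^ 3 / 12744000 := by
  set N := (l.map fun x => x.1 ^ x.2).prod with hN
  obtain ⟨i1, i2, _⟩ := galSum_list l h1 h2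
  rw [← hN] at i1 i2
  have hle : Nat.card A ≤ N := Nat.le_of_dvd (Nat.pos_of_ne_zero i2) hc
  have h3 := EPT.ncard_le_gen h hg hab (hle.trans_lt hB)
  refine h3.trans (Nat.add_le_add (Nat.add_le_add (Nat.mul_le_mul ?_ (Nat.div_le_div_right hle))
    (Nat.div_le_div_right (Nat.pow_le_pow_left hle 2))) (Nat.div_le_div_right (Nat.pow_le_pow_left hle 3)))
  rw [← i1]
  exact galSum_le_of_dvd hc i2

end Cfsg.Agent.H59.EP

private theorem dce_445cba17e72e : _root_.True := by
  try have : _root_.True := by simp only [_root_.Cfsg.Agent.H59.EP.gal.eq_1]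
  exact _root_.True.intro
end
end
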